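import Mathlib.GroupTheory.FixedPointFree
import Mathlib.GroupTheory.PGroup
import Mathlib.Tactic.Group
import Mathlib.Algebra.Group.Subgroup.Basic

/-!
# A fixed-point-free automorphism of order three

Every element commutes with all its conjugates, so in a `2`-group iterated commutators of length
three vanish (B. H. Neumann).
-/

set_option autoImplicit false

namespace Cfsg.Agent.Spectrum1234

open scoped commutatorElement

variable {N : Type*} [Group N]

/-- In a group where each element commutes with its conjugates, `⁅z, ⁅x, y⁆⁆` has order dividing 3. -/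
theorem pow_three_of_conj_commute (h : ∀ x g : N, Commute x (g * x * g⁻¹)) (x y z : N) :
    ⁅z, ⁅x, y⁆⁆ ^ 3 = 1 := by
  let A : N → Subgroup N := fun x => Subgroup.normalClosure {x}
  have hAn : ∀ x, (A x).Normal := fun x => Subgroup.normalClosure_normal
  have hself : ∀ x, x ∈ A x := fun x => Subgroup.subset_normalClosure rfl
  have hgen : ∀ x g : N, Commute (g * x * g⁻¹) x := fun x g => (h x g).symm
  have hcA : ∀ x, ∀ a ∈ A x, ∀ b ∈ A x, a * b = b * a := by
    intro x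
    have : IsMulCommutative (Subgroup.closure (Group.conjugatesOfSet ({x} : Set N))) := by
      refine Subgroup.isMulCommutative_closure ?_
      intro a ha b hb
      obtain ⟨x', hx', ha'⟩ := Group.mem_conjugatesOfSet_iff.1 ha
      obtain ⟨x'', hx'', hb'⟩ := Group.mem_conjugatesOfSet_iff.1 hb
      rw [Set.mem_singleton_iff] at hx' hx''
      rw [hx'] at ha'
      rw [hx''] at hb'
      obtain ⟨g, rfl⟩ := isConj_iff.1 ha'
      obtain ⟨k, rfl⟩ := isConj_iff.1 hb'
      have h1 := (h x (g⁻¹ * k)).eq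
      calc g * x * g⁻¹ * (k * x * k⁻¹) = g * (x * (g⁻¹ * k * x * (g⁻¹ * k)⁻¹)) * g⁻¹ := by group
        _ = g * (g⁻¹ * k * x * (g⁻¹ * k)⁻¹ * x) * g⁻¹ := by rw [h1]
        _ = k * x * k⁻¹ * (g * x * g⁻¹) := by group
    intro a ha b hb
    exact congrArg Subtype.val (this.is_comm.comm ⟨a, ha⟩ ⟨b, hb⟩)
  have hl : ∀ a b : N, ⁅a, b⁆ ∈ A a := fun a b => by
    rw [commutatorElement_def, mul_assoc, mul_assoc]
    exact mul_mem (hself a) (by
      rw [← mul_assoc]; exact (hAn a).conj_mem _ (inv_mem (hself a)) b)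
  have hr : ∀ a b : N, ⁅a, b⁆ ∈ A b := fun a b => by
    rw [commutatorElement_def]
    exact mul_mem ((hAn b).conj_mem _ (hself b) a) (inv_mem (hself b))
  have hin : ∀ (x a g : N), a ∈ A x → ⁅g, a⁆ ∈ A x := fun x a g ha => by
    rw [commutatorElement_def]
    exact mul_mem ((hAn x).conj_mem _ ha g) (inv_mem ha)
  have cl : ∀ (x : N) {a : N}, a ∈ A x → Commute a x := fun x a ha => hcA x a ha x (hself x)
  have conj : ∀ g a : N, g * a * g⁻¹ = ⁅g, a⁆ * a := fun g a => by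
    rw [commutatorElement_def]; group
  -- the alternating property
  have alt : ∀ x y z : N, ⁅z, ⁅x, y⁆⁆ * ⁅y, ⁅x, z⁆⁆ = 1 := by
    intro x y z
    set a := ⁅x, y⁆
    set b := ⁅x, z⁆
    set u := ⁅y, b⁆
    set v := ⁅z, a⁆
    have hbz : b ∈ A z := hr x z
    have hay : a ∈ A y := hr x y
    have huz : Commute u z := cl z (hin z b y hbz)
    have huy : Commute u y := cl y (hl y b)
    have hvy : Commute v y := cl y (hin y a z hay)
    have hxw : ⁅x, y * z⁆ = a * u * b := by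
      simp only [a, u, b, commutatorElement_def]; group
    have hw : Commute ⁅x, y * z⁆ (y * z) := cl (y * z) (hr x (y * z))
    rw [hxw] at hw
    have e1 : z * (a * u * b) * z⁻¹ = v * a * u * b := by
      calc z * (a * u * b) * z⁻¹ = (z * a * z⁻¹) * (z * u * z⁻¹) * (z * b * z⁻¹) := by group
        _ = v * a * u * b := by
          rw [conj z a, huz.symm.eq, mul_inv_cancel_right, (cl z hbz).symm.eq, mul_inv_cancel_right]
    have e2 : y * (v * a * u * b) * y⁻¹ = v * a * u * (u * b) := by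
      calc y * (v * a * u * b) * y⁻¹
          = (y * v * y⁻¹) * (y * a * y⁻¹) * (y * u * y⁻¹) * (y * b * y⁻¹) := by group
        _ = v * a * u * (u * b) := by
          rw [conj y b, hvy.symm.eq, mul_inv_cancel_right, (cl y hay).symm.eq, mul_inv_cancel_right,
            huy.symm.eq, mul_inv_cancel_right]
    have e3 : y * (z * (a * u * b) * z⁻¹) * y⁻¹ = a * u * b := by
      calc y * (z * (a * u * b) * z⁻¹) * y⁻¹ = (y * z) * (a * u * b) * (y * z)⁻¹ := by group
        _ = a * u * b := by rw [hw.symm.eq, mul_inv_cancel_right]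
    rw [e1, e2] at e3
    have hua : Commute u a := hcA y u (hl y b) a hay
    have h4 : (v * u) * (a * u * b) = a * u * b := by
      calc (v * u) * (a * u * b) = v * (u * a) * u * b := by group
        _ = v * (a * u) * u * b := by rw [hua.eq]
        _ = v * a * u * (u * b) := by group
        _ = a * u * b := e3
    exact mul_eq_right.1 h4
  set T := ⁅z, ⁅x, y⁆⁆
  have hinv : ∀ p q g : N, ⁅g, ⁅q, p⁆⁆ = ⁅g, ⁅p, q⁆⁆⁻¹ := by
    intro p q g
    rw [← commutatorElement_inv p q]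
    have hc : Commute ⁅g, ⁅p, q⁆⁆ ⁅p, q⁆ := (cl ⁅p, q⁆ (hr g ⁅p, q⁆))
    set c := ⁅p, q⁆
    have e : g * c⁻¹ * g⁻¹ = (g * c * g⁻¹)⁻¹ := by group
    calc ⁅g, c⁻¹⁆ = (g * c⁻¹ * g⁻¹) * c := by rw [commutatorElement_def, inv_inv]
      _ = c⁻¹ * ⁅g, c⁆⁻¹ * c := by rw [e, conj g c, mul_inv_rev]
      _ = ⁅g, c⁆⁻¹ := by rw [mul_assoc, hc.inv_left.eq, inv_mul_cancel_left]
  have hA : ∀ p q g : N, ⁅g, ⁅p, q⁆⁆ = ⁅q, ⁅p, g⁆⁆⁻¹ := fun p q g =>
    eq_inv_of_mul_eq_one_left (alt p q g)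
  -- `⁅y, ⁅z, x⁆⁆ = T` and `⁅x, ⁅z, y⁆⁆ = T⁻¹`
  have h1 : ⁅y, ⁅z, x⁆⁆ = T := by
    rw [hinv x z y, ← hA x y z]
  have h2 : ⁅x, ⁅z, y⁆⁆ = T⁻¹ := by
    rw [hinv y z x, hA y z x, inv_inv, hinv x y z]
  -- conjugate `⁅x, y⁆` by `z`
  set a := ⁅x, y⁆
  set p := ⁅z, x⁆
  set q := ⁅z, y⁆
  have hpx : p ∈ A x := hr z x
  have hqy : q ∈ A y := hr z y
  have hpz : p ∈ A z := hl z x
  have hqz : q ∈ A z := hl z y
  have hax : a ∈ A x := hl x y
  have hay : a ∈ A y := hr x y
  have e1 : z * a * z⁻¹ = T * a := conj z a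
  have e2 : z * a * z⁻¹ = ⁅p * x, q * y⁆ := by
    simp only [a, p, q, commutatorElement_def]; group
  have e3 : ⁅x, q * y⁆ = T⁻¹ * a := by
    have hqa : Commute q a := hcA y q hqy a hay
    calc ⁅x, q * y⁆ = ⁅x, q⁆ * (q * a * q⁻¹) := by
          simp only [a, commutatorElement_def]; group
      _ = T⁻¹ * a := by rw [h2, hqa.eq, mul_inv_cancel_right]
  have hpy : ⁅p, y⁆ = T⁻¹ := by rw [← commutatorElement_inv y p, h1]
  have e4 : ⁅p, q * y⁆ = T⁻¹ := by
    have hpq : ⁅p, q⁆ = 1 := commutatorElement_eq_one_iff_mul_comm.2 (hcA z p hpz q hqz)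
    calc ⁅p, q * y⁆ = ⁅p, q⁆ * (q * ⁅p, y⁆ * q⁻¹) := by
          simp only [commutatorElement_def]; group
      _ = T⁻¹ := by
        rw [hpq, one_mul, hpy]
        have hqT : Commute q T⁻¹ := by
          rw [← hpy]; exact hcA y q hqy _ (hr p y)
        rw [hqT.eq, mul_inv_cancel_right]
  have e5 : ⁅p * x, q * y⁆ = p * ⁅x, q * y⁆ * p⁻¹ * ⁅p, q * y⁆ := by
    simp only [commutatorElement_def]; group
  have hTx : T⁻¹ ∈ A x := h2 ▸ hl x q
  have hpT : Commute p (T⁻¹ * a) := hcA x p hpx _ (mul_mem hTx hax)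
  rw [e5, e3, e4, hpT.eq, mul_inv_cancel_right] at e2
  rw [e1] at e2
  have hTa : Commute T a := by
    have := hcA x _ (inv_mem hTx) a hax
    rwa [inv_inv] at this
  calc T ^ 3 = T * (T * (T * a) * a⁻¹) := by rw [pow_three]; group
    _ = T * (T * (T⁻¹ * a * T⁻¹) * a⁻¹) := by rw [e2]
    _ = T * (a * T⁻¹ * a⁻¹) := by group
    _ = 1 := by rw [← hTa.inv_left.eq, mul_inv_cancel_right, mul_inv_cancel]

variable [Finite N]

/-- With a fixed-point-free automorphism of order three every element commutes with its conjugates. -/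
theorem conj_commute_of_fpf_three (σ : MulAut N) (h3 : ∀ x, σ (σ (σ x)) = x)
    (hfpf : ∀ x, σ x = x → x = 1) :
    (∀ x : N, x * σ x * σ (σ x) = 1) ∧ (∀ x g : N, Commute x (g * x * g⁻¹)) ∧
      ∀ x : N, Commute x (σ x) := by
  have hff : MonoidHom.FixedPointFree (σ : N →* N) := hfpf
  have hid : (⇑(σ : N →* N))^[3] = _root_.id := funext fun x => h3 x
  have hprod : ∀ x : N, x * σ x * σ (σ x) = 1 := fun x => by
    have := hff.prod_pow_eq_one hid x
    simpa [List.range_succ, mul_assoc] using this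
  let τ : MulAut N := σ * σ
  have hff2 : MonoidHom.FixedPointFree (τ : N →* N) := fun x hx => hfpf x (by
    have h1 : σ (σ x) = x := hx
    have h2 := h3 x
    rwa [h1] at h2)
  have hid2 : (⇑(τ : N →* N))^[3] = _root_.id := funext fun x => by
    show σ (σ (σ (σ (σ (σ x))))) = x
    rw [h3, h3]
  have hprod2 : ∀ x : N, x * σ (σ x) * σ x = 1 := fun x => by
    have := hff2.prod_pow_eq_one hid2 x
    simpa [List.range_succ, mul_assoc, τ, h3] using this
  have hcomm : ∀ x : N, Commute x (σ x) := fun x => by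
    have key : ∀ y : N, Commute (σ y) (σ (σ y)) := fun y => by
      have e1 := hprod y
      have e2 := hprod2 y
      rw [mul_assoc] at e1 e2
      exact mul_left_cancel (e1.trans e2.symm)
    have := key (σ (σ x))
    rwa [h3] at this
  refine ⟨hprod, ?_, hcomm⟩
  have hA : ∀ x g : N, Commute x (g * σ x * g⁻¹) := by
    intro x g
    obtain ⟨h, hh⟩ := hff.commutatorMap_surjective g
    rw [MonoidHom.commutatorMap_apply, div_eq_mul_inv] at hh
    have hh' : h * (σ h)⁻¹ = g := hh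
    have h1 := (hcomm (h⁻¹ * x * h)).eq
    rw [map_mul, map_mul, map_inv] at h1
    rw [← hh']
    show x * (h * (σ h)⁻¹ * σ x * (h * (σ h)⁻¹)⁻¹) = h * (σ h)⁻¹ * σ x * (h * (σ h)⁻¹)⁻¹ * x
    calc x * (h * (σ h)⁻¹ * σ x * (h * (σ h)⁻¹)⁻¹)
        = h * ((h⁻¹ * x * h) * ((σ h)⁻¹ * σ x * σ h)) * h⁻¹ := by group
      _ = h * (((σ h)⁻¹ * σ x * σ h) * (h⁻¹ * x * h)) * h⁻¹ := by rw [h1]
      _ = h * (σ h)⁻¹ * σ x * (h * (σ h)⁻¹)⁻¹ * x := by group
  have hB : ∀ x g : N, Commute x (g * σ (σ x) * g⁻¹) := by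
    intro x g
    have h1 := (hA (σ (σ x)) g⁻¹).eq
    rw [h3] at h1
    show x * (g * σ (σ x) * g⁻¹) = g * σ (σ x) * g⁻¹ * x
    calc x * (g * σ (σ x) * g⁻¹) = g * (g⁻¹ * x * g⁻¹⁻¹ * σ (σ x)) * g⁻¹ := by group
      _ = g * (σ (σ x) * (g⁻¹ * x * g⁻¹⁻¹)) * g⁻¹ := by rw [h1]
      _ = g * σ (σ x) * g⁻¹ * x := by group
  intro x g
  have h4 : g * x * g⁻¹ = ((g * σ x * g⁻¹) * (g * σ (σ x) * g⁻¹))⁻¹ := by
    have := hprod x
    rw [mul_assoc] at this
    conv_lhs => rw [eq_inv_of_mul_eq_one_left this]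
    group
  rw [h4]
  exact ((hA x g).mul_right (hB x g)).inv_right

end Cfsg.Agent.Spectrum1234
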